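import Mathlib

/-!
# `³D₄(q)`: numbers (S2452; helper458)
-/

set_option autoImplicit false

namespace Cfsg.Agent.H458.TW.Td

/-- the estimate of the class sum -/
theorem num_lt {t a b d s c : ℝ} (ht : 64 ≤ t) (ha : 2 * a = t * (t + 1) ^ 2) (hb : 2 * b = t * (t - 1) ^ 2)
    (hd : d = (t ^ 2 - 1) ^ 2) (hs : 60 ≤ s) (hc0 : 0 ≤ c) (hc : 17 * c < 2 * t ^ 6) :
    c * (1 / a ^ 2 + 1 / b ^ 2 + 16 / (s * d ^ 2)) < 1 := by
  have ht0 : 0 < t := by linarith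
  have ht6 : 0 < t ^ 6 := by positivity
  have ha' : t ^ 3 ≤ 2 * a := by
    rw [ha]
    nlinarith [mul_pos ht0 ht0]
  have ha2 : t ^ 6 ≤ 4 * a ^ 2 := by
    have h1 : 0 ≤ t ^ 3 := by positivity
    have h2 := mul_self_le_mul_self h1 ha'
    nlinarith
  have ha0 : 0 < a := by nlinarith [pow_pos ht0 3]
  have hb' : (63 / 64) ^ 2 * t ^ 3 ≤ 2 * b := by
    rw [hb]
    have h1 : 63 / 64 * t ≤ t - 1 := by linarith
    have h2 : (63 / 64 * t) * (63 / 64 * t) ≤ (t - 1) * (t - 1) := mul_self_le_mul_self (by positivity) h1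
    nlinarith
  have hb2 : t ^ 6 ≤ 427 / 100 * b ^ 2 := by
    have h1 : 0 ≤ (63 / 64 : ℝ) ^ 2 * t ^ 3 := by positivity
    have h2 := mul_self_le_mul_self h1 hb'
    have h3 : ((63 / 64 : ℝ) ^ 2 * t ^ 3) * ((63 / 64) ^ 2 * t ^ 3) = (63 / 64) ^ 4 * t ^ 6 := by ring
    rw [h3] at h2
    nlinarith
  have hb0 : 0 < b := by nlinarith [pow_pos ht0 3]
  have hd' : t ^ 4 ≤ 2 * d := by
    rw [hd]
    have h1 : 4096 ≤ t ^ 2 := by nlinarith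
    nlinarith
  have hd0 : 0 < d := by nlinarith [pow_pos ht0 4]
  have hd2 : t ^ 8 ≤ 4 * d ^ 2 := by
    have h1 : 0 ≤ t ^ 4 := by positivity
    have h2 := mul_self_le_mul_self h1 hd'
    nlinarith
  have hsd : 15 * 4096 * t ^ 6 ≤ s * d ^ 2 := by
    have h1 : 4096 ≤ t ^ 2 := by nlinarith
    have h2 : 4096 * t ^ 6 ≤ t ^ 8 := by nlinarith
    have h3 : 60 * d ^ 2 ≤ s * d ^ 2 := mul_le_mul_of_nonneg_right hs (by positivity)
    nlinarith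
  have h1 : 1 / a ^ 2 ≤ 4 / t ^ 6 := by
    rw [div_le_div_iff₀ (by positivity) ht6]
    linarith
  have h2 : 1 / b ^ 2 ≤ (427 / 100) / t ^ 6 := by
    rw [div_le_div_iff₀ (by positivity) ht6]
    linarith
  have h3 : 16 / (s * d ^ 2) ≤ (1 / 100) / t ^ 6 := by
    rw [div_le_div_iff₀ (by positivity) ht6]
    linarith
  have h4 : c * (1 / a ^ 2 + 1 / b ^ 2 + 16 / (s * d ^ 2)) ≤ c * ((828 / 100) / t ^ 6) := by
    refine mul_le_mul_of_nonneg_left ?_ hc0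
    have : (828 / 100 : ℝ) / t ^ 6 = 4 / t ^ 6 + (427 / 100) / t ^ 6 + (1 / 100) / t ^ 6 := by ring
    linarith
  have h5 : c * ((828 / 100) / t ^ 6) < 1 := by
    rw [← mul_div_assoc, div_lt_one ht6]
    linarith
  linarith

/-- the order of `³D₄(q)` -/
theorem ord_eq {q P : ℕ} (hq : 1 < q) (hP : P + q ^ 2 = q ^ 4 + 1) :
    q ^ 12 * (q ^ 2 - 1) * (q ^ 6 - 1) * (q ^ 8 + q ^ 4 + 1) = q ^ 12 * (q ^ 6 - 1) ^ 2 * P := by
  obtain ⟨X, hX⟩ : ∃ X, q ^ 2 = X + 1 := ⟨q ^ 2 - 1, by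
    have : 1 < q ^ 2 := Nat.one_lt_pow (by norm_num) hq
    omega⟩
  have e4 : q ^ 4 = (X + 1) ^ 2 := by rw [← hX]; ring
  have e6 : q ^ 6 = (X + 1) ^ 3 := by rw [← hX]; ring
  have e8 : q ^ 8 = (X + 1) ^ 4 := by rw [← hX]; ring
  have e6' : q ^ 6 - 1 = X * (X ^ 2 + 3 * X + 3) := by
    rw [e6]
    apply Nat.sub_eq_of_eq_add
    ring
  have hP' : P = X ^ 2 + X + 1 := by
    rw [e4, hX] at hP
    nlinarith
  rw [e6', e8, e4, hX, hP', Nat.add_sub_cancel]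
  ring

/-- a prime divisor of `q⁴ - q² + 1` is at least 7 -/
theorem seven_le {q P r : ℕ} (hP : P + q ^ 2 = q ^ 4 + 1) (hr : r.Prime) (h : r ∣ P) : 7 ≤ r := by
  by_contra hlt
  have h2 := hr.two_le
  have h5 : r = 2 ∨ r = 3 ∨ r = 4 ∨ r = 5 ∨ r = 6 := by omega
  obtain ⟨m, rfl⟩ := h
  rcases h5 with rfl | rfl | rfl | rfl | rfl
  · have h1 := congrArg (· % 2) hP
    have h3 : q % 2 = 0 ∨ q % 2 = 1 := by omega
    rcases h3 with h3 | h3 <;> simp [Nat.add_mod, Nat.mul_mod, Nat.pow_mod, h3] at h1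
  · have h1 := congrArg (· % 3) hP
    have h3 : q % 3 = 0 ∨ q % 3 = 1 ∨ q % 3 = 2 := by omega
    rcases h3 with h3 | h3 | h3 <;> simp [Nat.add_mod, Nat.mul_mod, Nat.pow_mod, h3] at h1
  · exact absurd hr (by norm_num)
  · have h1 := congrArg (· % 5) hP
    have h3 : q % 5 = 0 ∨ q % 5 = 1 ∨ q % 5 = 2 ∨ q % 5 = 3 ∨ q % 5 = 4 := by omega
    rcases h3 with h3 | h3 | h3 | h3 | h3 <;> simp [Nat.add_mod, Nat.mul_mod, Nat.pow_mod, h3] at h1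
  · exact absurd hr (by norm_num)

/-- congruences of the degrees -/
theorem cong_st {q P : ℕ} (hP : P + q ^ 2 = q ^ 4 + 1) : (P : ℤ) ∣ ((q ^ 12 : ℕ) : ℤ) - 1 := by
  have h : (P : ℤ) = (q : ℤ) ^ 4 - q ^ 2 + 1 := by
    have : (P : ℤ) + q ^ 2 = q ^ 4 + 1 := by exact_mod_cast hP
    linarith
  refine ⟨((q : ℤ) ^ 2 + 1) * (q ^ 6 - 1), ?_⟩
  rw [h]
  push_cast
  ring

theorem cong_phi {q P e : ℕ} (hP : P + q ^ 2 = q ^ 4 + 1) (h3 : 2 * e = q ^ 3 * (q ^ 3 + 1) ^ 2) :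
    (P : ℤ) ∣ (e : ℤ) + 1 := by
  have h : (P : ℤ) = (q : ℤ) ^ 4 - q ^ 2 + 1 := by
    have : (P : ℤ) + q ^ 2 = q ^ 4 + 1 := by exact_mod_cast hP
    linarith
  have h3' : 2 * (e : ℤ) = q ^ 3 * (q ^ 3 + 1) ^ 2 := by exact_mod_cast h3
  have h1 : (P : ℤ) ∣ 2 * ((e : ℤ) + 1) := by
    refine ⟨((q : ℤ) ^ 2 + 1) * (q ^ 3 + 2), ?_⟩
    rw [mul_add, h3', h]
    ring
  have hodd : Int.gcd (P : ℤ) 2 = 1 := by
    rw [Int.gcd_comm]
    have h2 : ¬ 2 ∣ P := fun h => by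
      have := seven_le hP Nat.prime_two h
      omega
    exact_mod_cast (Nat.Prime.coprime_iff_not_dvd Nat.prime_two).2 h2
  exact Int.dvd_of_dvd_mul_right_of_gcd_one h1 hodd

end Cfsg.Agent.H458.TW.Td
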